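import Groth.Agent.CycCov.K892.RankOne
import Groth.Agent.Fdesc.LocGenTensor
import Groth.Agent.Dix.IdealModCartier
import Groth.Prelude.Def_CycCov

/-!
# Local frames: powers, tensor products, inverses, ideals
-/

set_option autoImplicit false

universe u

open CategoryTheory CategoryTheory.Limits AlgebraicGeometry Opposite TopologicalSpace
open scoped TensorProduct
open Groth.Agent.Sga67.Sec Groth.Agent.Sga67.LocBasis

namespace K892.Frames

open K922.Tens K922.Quot K922.DSec K892.RankOne
open Groth.Agent.Fdesc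

variable {X : Scheme.{u}}

theorem gen_iff {M : X.Modules} {U : X.Opens} {m : Sec M U} :
    Gen M U m ↔ LocGen.IsGen (M := M) (U := U) m := by
  have key : ∀ (V : X.Opens) (h : V ≤ U), (fun a : Γ(X, V) => a • res M h m) =
      comb (fun _ : Fin 1 => m) h ∘ (fun a _ => a) := by
    intro V h
    funext a
    simp [comb_apply]
  have bij : ∀ (V : X.Opens), Function.Bijective (fun (a : Γ(X, V)) (_ : Fin 1) => a) := by
    intro V
    refine ⟨fun a b hab => congr_fun hab 0, fun a => ⟨a 0, ?_⟩⟩
    funext i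
    rw [Subsingleton.elim i 0]
  constructor
  · intro hm V h
    have h1 := (hm V h).comp (bij V)
    rw [← key] at h1
    exact h1
  · intro hm V h
    have h1 : Function.Bijective (fun a : Γ(X, V) => a • res M h m) := hm V h
    rw [key] at h1
    exact (Function.Bijective.of_comp_iff _ (bij V)).mp h1

theorem Gen.tau {A B : X.Modules} {U : X.Opens} {a : Sec A U} {b : Sec B U} (ha : Gen A U a)
    (hb : Gen B U b) : Gen (CohB1.tensorMod A B) U (Groth.Agent.Sga67.Sec.tau A B U (a ⊗ₜ[Γ(X, U)] b)) :=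
  gen_iff.mpr ((gen_iff.mp ha).tmul (gen_iff.mp hb))

theorem Gen.appIso {A B : X.Modules} (η : A ≅ B) {U : X.Opens} {a : Sec A U} (ha : Gen A U a) :
    Gen B U (appS η.hom U a) :=
  gen_iff.mpr (LocGen.IsGen.app η.hom (gen_iff.mp ha))

theorem lpow_eq {L : X.Modules} {U : X.Opens} (e : Sec L U) (n : ℕ) :
    CycCov.lpow L U e n = LocGen.pow (L := L) (U := U) e n := by
  induction n with
  | zero => rfl
  | succ n ih =>
    change SecTwist.tmul (CohB1.tensorPow L n) L U (CycCov.lpow L U e n) e = _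
    rw [ih]
    rfl

theorem Gen.lpow {L : X.Modules} {U : X.Opens} {e : Sec L U} (he : Gen L U e) (n : ℕ) :
    Gen (CohB1.tensorPow L n) U (CycCov.lpow L U e n) := by
  rw [lpow_eq]
  exact gen_iff.mpr ((gen_iff.mp he).pow n)

theorem lpow_smul {L : X.Modules} {U : X.Opens} (a : Γ(X, U)) (e : Sec L U) (n : ℕ) :
    CycCov.lpow L U (a • e) n = a ^ n • CycCov.lpow L U e n := by
  rw [lpow_eq, lpow_eq]
  exact LocGen.smul_pow a e n

theorem res_lpow {L : X.Modules} {U V : X.Opens} (h : V ≤ U) (e : Sec L U) (n : ℕ) :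
    res (CohB1.tensorPow L n) h (CycCov.lpow L U e n) = CycCov.lpow L V (res L h e) n := by
  rw [lpow_eq, lpow_eq]
  exact LocGen.res_pow h e n

theorem exists_gen {L : X.Modules} (hL : PicF.IsInvertible L) (O : X.Opens) (x : X) (hx : x ∈ O) :
    ∃ (U : X.Opens) (_ : x ∈ U) (_ : U ≤ O) (e : Sec L U), Gen L U e := by
  obtain ⟨V, e, hxV, he⟩ := (LocGen.isInvertible_iff L).mp hL x
  exact ⟨V ⊓ O, ⟨hxV, hx⟩, inf_le_right, res L inf_le_left e, (gen_iff.mpr he).restrict inf_le_left⟩

theorem isUnit_of_gen {U : X.Opens} {s : Sec (Coh.structureModule X) U}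
    (hs : Gen (Coh.structureModule X) U s) : IsUnit (toO s) := by
  obtain ⟨a, ha⟩ := hs.bijective.2 (one X U)
  simp only at ha
  have h1 : a * toO s = 1 := by
    rw [← toO_smul, ha, toO_one]
  exact IsUnit.of_mul_eq_one_right a h1

theorem isUnit_of_gen_smul {M : X.Modules} {U : X.Opens} {m : Sec M U} (hm : Gen M U m) {v : Γ(X, U)}
    (hv : Gen M U (v • m)) : IsUnit v := by
  obtain ⟨a, ha⟩ := hv.bijective.2 m
  simp only at ha
  have h1 : a * v = 1 := by
    apply hm.bijective.1
    simp only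
    rw [mul_smul, ha, _root_.one_smul]
  exact IsUnit.of_mul_eq_one_right a h1

end K892.Frames
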