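import Groth.Agent.LogNCD.K922.LogBasis

/-!
# Logarithmic derivatives on sections
-/

set_option autoImplicit false

universe u

open CategoryTheory CategoryTheory.Limits AlgebraicGeometry Opposite TopologicalSpace
open scoped TensorProduct
open Groth.Agent.Sga67.Sec Groth.Agent.Sga67.LocBasis

namespace K892.LogDer

open K922.Tens K922.Quot K922.DSec K922.Coord

variable {X S : Scheme.{u}} {f : X ⟶ S} {Ω : X.Modules} (δ : OmegaSh.Der f Ω)

/-- `θ` is a logarithmic derivative of `a`. -/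
def LD (U : X.Opens) (a : Γ(X, U)) (θ : Sec Ω U) : Prop := a • θ = dS δ U a

theorem LD.one (U : X.Opens) : LD δ U 1 0 := by
  unfold LD
  rw [smul_zero, dS_one]

variable {δ}

theorem LD.mul {U : X.Opens} {a b : Γ(X, U)} {θ θ' : Sec Ω U} (h : LD δ U a θ) (h' : LD δ U b θ') :
    LD δ U (a * b) (θ + θ') := by
  unfold LD at h h' ⊢
  rw [dS_mul, ← h, ← h', smul_add, mul_smul, mul_smul, smul_comm a b θ, add_comm]

theorem LD.pow {U : X.Opens} {a : Γ(X, U)} {θ : Sec Ω U} (h : LD δ U a θ) (n : ℕ) :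
    LD δ U (a ^ n) (n • θ) := by
  induction n with
  | zero =>
    rw [pow_zero, zero_smul]
    exact LD.one δ U
  | succ n ih =>
    rw [pow_succ, succ_nsmul]
    exact ih.mul h

theorem LD.prod {U : X.Opens} {ι : Type*} (s : Finset ι) {a : ι → Γ(X, U)} {θ : ι → Sec Ω U}
    (h : ∀ i ∈ s, LD δ U (a i) (θ i)) : LD δ U (∏ i ∈ s, a i) (∑ i ∈ s, θ i) := by
  classical
  induction s using Finset.induction_on with
  | empty =>
    rw [Finset.prod_empty, Finset.sum_empty]
    exact LD.one δ U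
  | insert i s hi ih =>
    rw [Finset.prod_insert hi, Finset.sum_insert hi]
    exact (h i (Finset.mem_insert_self i s)).mul (ih fun j hj => h j (Finset.mem_insert_of_mem hj))

theorem LD.of_inv {U : X.Opens} {a b : Γ(X, U)} (hab : a * b = 1) : LD δ U a (b • dS δ U a) := by
  unfold LD
  rw [smul_smul, hab, _root_.one_smul]

theorem LD.restrict {U V : X.Opens} (h : V ≤ U) {a : Γ(X, U)} {θ : Sec Ω U} (hθ : LD δ U a θ) :
    LD δ V (resO X h a) (res Ω h θ) := by
  unfold LD at hθ ⊢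
  rw [← res_smul, hθ, dS_res]

theorem isReg_of_isUnit {U : X.Opens} {a : Γ(X, U)} (ha : IsUnit a) : IsReg U a := by
  intro W h b hb
  have h1 : IsUnit (resO X h a) := ha.map _
  exact (h1.mul_right_eq_zero).mp hb

theorem eq_zero_of_smul {M : X.Modules} (hM : FlatMod.IsFinLocFree M) {U : X.Opens} {a : Γ(X, U)}
    (ha : IsReg U a) (x : Sec M U) (hx : a • x = 0) : x = 0 := by
  apply eq_of_locally
  intro y hy
  obtain ⟨V, n, hyV, b, hb⟩ := (isFinLocFree_iff _).mp hM y
  refine ⟨V ⊓ U, inf_le_right, ⟨hyV, hy⟩, ?_⟩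
  obtain ⟨c, hc⟩ := (hb _ (inf_le_left : V ⊓ U ≤ V)).2 (res M inf_le_right x)
  have h1 : comb b (inf_le_left : V ⊓ U ≤ V) (resO X (inf_le_right : V ⊓ U ≤ U) a • c) = 0 := by
    rw [map_smul, hc, ← res_smul, hx, map_zero]
  have h2 := (hb _ (inf_le_left : V ⊓ U ≤ V)).1 (h1.trans (map_zero _).symm)
  have h3 : c = 0 := by
    funext j
    exact ha _ _ _ (congr_fun h2 j)
  rw [← hc, h3, map_zero, map_zero]

/-- A positive integer invertible in the base field is invertible on every open. -/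
theorem isUnit_natCast {k : Type u} [Field k] (g : X ⟶ Spec (CommRingCat.of k)) {N : ℕ}
    (hN : (N : k) ≠ 0) (U : X.Opens) : IsUnit (N : Γ(X, U)) := by
  let φ : k →+* Γ(X, U) := ((g.appLE ⊤ U le_top).hom).comp (Scheme.ΓSpecIso (CommRingCat.of k)).inv.hom
  have h1 : IsUnit (φ N) := (isUnit_iff_ne_zero.mpr hN).map φ
  rwa [map_natCast] at h1

end K892.LogDer
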