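import Groth.Agent.CycCov.K892.Pair
import Groth.Agent.CycCov.K892.LogDer
import Groth.Agent.LogNCD.K922.Univ
import Groth.Agent.LogNCD.K922.Residue

/-!
# The logarithmic connection on the inverse of the integral part of a root
-/

set_option autoImplicit false

universe u

open CategoryTheory CategoryTheory.Limits AlgebraicGeometry Opposite TopologicalSpace
open scoped TensorProduct
open Groth.Agent.Sga67.Sec Groth.Agent.Sga67.LocBasis

namespace K892.Conn

open K922.Tens K922.Quot K922.DSec K922.Coord K892.RankOne K892.Frames K892.Frame K892.Pair K892.LogDer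

variable {X S : Scheme.{u}} {r : ℕ} {D : Fin r → X.IdealSheafData} {α : Fin r → ℕ} {N i : ℕ}
  {L M : X.Modules} {f : X ⟶ S} {Ω' : X.Modules} {d : OmegaSh.Der f Ω'}

/-- `ω` is the connection form of the generator `m`. -/
def R (Λ : LogNCD.LogMod d (CycCov.poleDiv D α N i))
    (η : CohB1.tensorMod (CycCov.intPart L D α N i) M ≅ Coh.structureModule X)
    (s : Coh.structureModule X ⟶ CohB1.tensorPow L N) (U : X.Opens) (m : Sec M U) (ω : Sec Λ.L U) : Prop :=
  ∃ h : Γ(X, U), IsReg U h ∧ H η s U m h ∧ LD (LogNCD.der Λ) U h (N • ω) ∧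
    ∀ j, N • appS (Λ.res j) U ω =
      CycCov.resNum α N i j • LogNCD.oneOn (CycCov.poleDiv D α N i j) U

variable {Λ : LogNCD.LogMod d (CycCov.poleDiv D α N i)}
    {η : CohB1.tensorMod (CycCov.intPart L D α N i) M ≅ Coh.structureModule X}
    {s : Coh.structureModule X ⟶ CohB1.tensorPow L N}

theorem R.restrict {U V : X.Opens} (hV : V ≤ U) {m : Sec M U} {ω : Sec Λ.L U} (h : R Λ η s U m ω) :
    R Λ η s V (res M hV m) (res Λ.L hV ω) := by
  obtain ⟨h, h1, h2, h3, h4⟩ := h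
  refine ⟨resO X hV h, h1.restrict hV, h2.restrict η hV, ?_, fun j => ?_⟩
  · have := h3.restrict hV
    rwa [map_nsmul] at this
  · have := congrArg (res _ hV) (h4 j)
    rwa [map_nsmul, map_nsmul, ← appS_res, res_oneOn] at this

theorem R.comp [Smooth f] (hd : OmegaSh.IsUniversal d) (hD : LogNCD.IsNCD D f)
    (hDi : LogNCD.IsNCD (CycCov.poleDiv D α N i) f)
    (hL : PicF.IsInvertible L) (hM : PicF.IsInvertible M)
    (hs : CycCov.IsZeroDiv (CohB1.tensorPow L N) s (CycCov.divIdeal D α))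
    (hN : ∀ U : X.Opens, IsUnit (N : Γ(X, U))) {U : X.Opens}
    {m m' : Sec M U} {ω ω' : Sec Λ.L U} {v : Γ(X, U)} (hm : Gen M U m) (hm' : Gen M U m')
    (h1 : R Λ η s U m ω) (h2 : R Λ η s U m' ω') (hv : m' = v • m) :
    v • ω' = v • ω + dS (LogNCD.der Λ) U v := by
  subst hv
  obtain ⟨h, hreg, hH, hω, -⟩ := h1
  obtain ⟨h', -, hH', hω', -⟩ := h2
  have hh := H.smul η hD hL hM hs hH hH'
  have hvu : IsUnit v := isUnit_of_gen_smul hm hm'
  obtain ⟨v', hv'⟩ := hvu.exists_right_inv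
  have hθ := LD.of_inv (δ := LogNCD.der Λ) hv'
  have h3 := (hθ.pow N).mul hω
  rw [← hh] at h3
  have h4 : h' • (N • (ω' - (v' • dS (LogNCD.der Λ) U v + ω))) = 0 := by
    have h5 : h' • (N • ω') = h' • (N • (v' • dS (LogNCD.der Λ) U v) + N • ω) := by
      rw [show h' • (N • ω') = _ from hω', show h' • (N • (v' • dS (LogNCD.der Λ) U v) + N • ω) = _ from h3]
    rw [nsmul_sub, nsmul_add, smul_sub, h5, sub_self]
  have hreg' : IsReg U (h' * (N : Γ(X, U))) := by
    rw [hh]
    exact (((isReg_of_isUnit hvu).pow N).mul hreg).mul (isReg_of_isUnit (hN U))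
  have h5 := eq_zero_of_smul (K922.LogBasis.isFinLocFree (K922.Univ.affUniv hd) hDi Λ) hreg'
    (ω' - (v' • dS (LogNCD.der Λ) U v + ω)) (by
      rw [mul_smul, Nat.cast_smul_eq_nsmul]
      exact h4)
  rw [sub_eq_zero.mp h5, smul_add, smul_smul, hv', _root_.one_smul, add_comm]

theorem poleDiv_ideal (V : X.affineOpens) (F : Fr D α N i L M s V) (j : Fin r) :
    (CycCov.poleDiv D α N i j).ideal V = Ideal.span {if N ∣ i * α j then 1 else F.g j} := by
  unfold CycCov.poleDiv
  split_ifs with h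
  · rw [Ideal.span_singleton_one]
    rfl
  · have := F.ideal j V le_rfl
    rwa [resO_self] at this

theorem exists_R (hN : ∀ U : X.Opens, IsUnit (N : Γ(X, U))) {V : X.affineOpens}
    (F : Fr D α N i L M s V) : ∃ ω, R Λ η s V.1 F.m ω := by
  classical
  obtain ⟨-, dl, hdl, -, hres, hres'⟩ := K922.LogBasis.rule Λ V
    (fun j => if N ∣ i * α j then 1 else F.g j) (poleDiv_ideal V F)
  obtain ⟨n', hn'⟩ := (hN V.1).exists_right_inv
  have hu := isUnit_P η F.gen_e F.gen_y F.gen_m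
  obtain ⟨u', hu'⟩ := hu.exists_right_inv
  obtain ⟨w', hw'⟩ := F.unit_w.exists_right_inv
  have hθu := LD.of_inv (δ := LogNCD.der Λ) hu'
  have hθw := LD.of_inv (δ := LogNCD.der Λ) hw'
  have ha : ∀ j, N ∣ i * α j → CycCov.resNum α N i j = 0 := fun j hj => Nat.mod_eq_zero_of_dvd hj
  have hθg : LD (LogNCD.der Λ) V.1 (∏ j, F.g j ^ CycCov.resNum α N i j)
      (∑ j, CycCov.resNum α N i j • dl j) := by
    apply LD.prod
    intro j _
    by_cases hj : N ∣ i * α j
    · rw [ha j hj, pow_zero, zero_smul]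
      exact LD.one _ _
    · apply LD.pow
      have := hdl j
      simp only [hj, if_false] at this
      exact this
  have hθ := (((hθu.pow N).mul (hθw.pow i)).mul hθg)
  set θ := N • u' • dS (LogNCD.der Λ) V.1 (P η F.e F.y F.m) + i • w' • dS (LogNCD.der Λ) V.1 F.w +
    ∑ j, CycCov.resNum α N i j • dl j with hθdef
  have hNθ : N • (n' • θ) = θ := by
    rw [← Nat.cast_smul_eq_nsmul Γ(X, V.1), smul_smul, hn', _root_.one_smul]
  refine ⟨n' • θ, _, ?_, exists_H η F, ?_, ?_⟩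
  · exact (((isReg_of_isUnit hu).pow N).mul ((isReg_of_isUnit F.unit_w).pow i)).mul
      (IsReg.prod _ fun j _ => (F.reg j).pow _)
  · rw [hNθ]
    exact hθ
  · intro j
    rw [← map_nsmul, hNθ, hθdef, map_add, map_add, map_nsmul, map_nsmul, map_smul, map_smul, dS_der, dS_der,
      appS_res_ι, appS_res_ι, smul_zero, smul_zero, smul_zero, smul_zero, zero_add, zero_add, map_sum,
      Finset.sum_eq_single j]
    · rw [map_nsmul, hres]
    · intro l _ hl
      rw [map_nsmul, hres' l j hl, smul_zero]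
    · intro h
      exact absurd (Finset.mem_univ j) h

theorem hom_ext_of_gen {A B : X.Modules} {φ ψ : A ⟶ B}
    (h : ∀ (O : X.Opens) (x : X), x ∈ O → ∃ U : X.Opens, x ∈ U ∧ U ≤ O ∧ ∃ m : Sec A U, Gen A U m ∧
      appS φ U m = appS ψ U m) : φ = ψ := by
  apply hom_ext
  intro O t
  apply eq_of_locally
  intro x hx
  obtain ⟨U, hxU, hUO, m, hm, hmm⟩ := h O x hx
  refine ⟨U, hUO, hxU, ?_⟩
  obtain ⟨a, ha⟩ := hm.bijective.2 (res A hUO t)
  simp only at ha
  rw [← appS_res, ← appS_res, ← ha, map_smul, map_smul, hmm]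

theorem unitorR_inv {E : X.Modules} (U : X.Opens) (m : Sec E U) :
    appS (SecTwist.unitorR E).inv U m = tau E (Coh.structureModule X) U (m ⊗ₜ[Γ(X, U)] fnL X U 1) := by
  have h2 : appS (SecTwist.unitorR E).hom U (tau E (Coh.structureModule X) U
        (m ⊗ₜ[Γ(X, U)] fnL X U 1)) = (1 : Γ(X, U)) • m :=
      SecTwist.unitorR_tmul E U m _
  have h3 := congrArg (appS (SecTwist.unitorR E).inv U) h2
  rw [appS_hom_inv, _root_.one_smul] at h3
  exact h3.symm

theorem residue_eq {j : Fin r} {nabla : Coh.toAb M ⟶ Coh.toAb (CohB1.tensorMod M Λ.L)}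
    {ρ : M ⟶ CohB1.tensorMod M (ClSub.quotMod (CycCov.poleDiv D α N i j))}
    (hρ : LogNCD.IsResidue Λ M nabla j ρ) {U : X.Opens} {m : Sec M U} {ω : Sec Λ.L U}
    (h1 : ConnSh.secApp nabla U m = tau M Λ.L U (m ⊗ₜ[Γ(X, U)] ω)) (h2 : R Λ η s U m ω) :
    appS (N • ρ) U m = appS (CycCov.resNum α N i j • ((SecTwist.unitorR M).inv ≫
      KoszTw.tensorMap (𝟙 M) (ClSub.toSubscheme (CycCov.poleDiv D α N i j)))) U m := by
  obtain ⟨h, -, -, -, hres⟩ := h2
  have h3 : appS ρ U m = tau M _ U (m ⊗ₜ[Γ(X, U)] appS (Λ.res j) U ω) := by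
    have h4 := congrArg (fun φ => ConnSh.secApp φ U m) hρ
    simp only [secApp_map, secApp_comp] at h4
    rw [h4, h1, tensorMap_tau, TensorProduct.map_tmul]
    rfl
  have h5 : appS ((SecTwist.unitorR M).inv ≫
      KoszTw.tensorMap (𝟙 M) (ClSub.toSubscheme (CycCov.poleDiv D α N i j))) U m =
      tau M _ U (m ⊗ₜ[Γ(X, U)] LogNCD.oneOn (CycCov.poleDiv D α N i j) U) := by
    rw [appS_comp, unitorR_inv, tensorMap_tau, TensorProduct.map_tmul]
    rfl
  have h6 : ∀ {A B : X.Modules} (n : ℕ) (φ : A ⟶ B) (t : Sec A U), appS (n • φ) U t = n • appS φ U t := by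
    intro A B n φ t
    induction n with
    | zero => rw [zero_smul, zero_smul]; rfl
    | succ n ih => rw [succ_nsmul, succ_nsmul, ← ih]; rfl
  rw [h6, h6, h3, h5, ← map_nsmul, ← map_nsmul, ← TensorProduct.tmul_smul, ← TensorProduct.tmul_smul, hres j]

end K892.Conn
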