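import Groth.Agent.CycCov.K892.Frames
import Groth.Agent.ExtPow.K875.DetTensor
import Groth.Agent.VarietyA.FinTriv

/-!
# Flat double covers: local structure
-/

set_option autoImplicit false

universe u

open CategoryTheory CategoryTheory.Limits AlgebraicGeometry Opposite TopologicalSpace Polynomial
open scoped TensorProduct
open Groth.Agent.Sga67.Sec Groth.Agent.Sga67.LocBasis Groth.Agent.Sga67.ExtSheaf
open Groth.Agent.Fdesc K875.PowSec K875.DetTensor K892.Frames K892.RankOne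

namespace K892.DblCov

section Alg

variable {A B : Type*} [CommRing A] [CommRing B]

theorem bij_of_adjoinRoot (φ : A →+* B) (t : B) (f : A)
    (h0 : Polynomial.eval₂ φ t (X ^ 2 - C f) = 0)
    (h : Function.Bijective (AdjoinRoot.lift φ t h0)) :
    Function.Bijective (fun p : A × A => φ p.1 + φ p.2 * t) := by
  rcases subsingleton_or_nontrivial A with hA | hA
  · have hB : Subsingleton B := by
      have h1 : (1 : B) = 0 := by rw [← φ.map_one, Subsingleton.elim (1 : A) 0, φ.map_zero]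
      exact subsingleton_of_zero_eq_one h1.symm
    exact ⟨fun _ _ _ => Subsingleton.elim _ _, fun b => ⟨0, Subsingleton.elim _ _⟩⟩
  · have hmon : (X ^ 2 - C f : A[X]).Monic := monic_X_pow_sub_C f two_ne_zero
    have hdeg : (X ^ 2 - C f : A[X]).degree = 2 := degree_X_pow_sub_C two_pos f
    have hval : ∀ a b : A, AdjoinRoot.lift φ t h0 (AdjoinRoot.mk _ (C a + C b * X)) = φ a + φ b * t := by
      intro a b
      rw [AdjoinRoot.lift_mk]
      simp
    constructor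
    · intro p q hpq
      have h1 : AdjoinRoot.lift φ t h0 (AdjoinRoot.mk _ (C (p.1 - q.1) + C (p.2 - q.2) * X)) = 0 := by
        rw [hval, map_sub, map_sub]
        have := hpq
        simp only at this
        linear_combination this
      have h2 : AdjoinRoot.mk (X ^ 2 - C f) (C (p.1 - q.1) + C (p.2 - q.2) * X) = 0 :=
        h.1 (h1.trans (map_zero _).symm)
      rw [AdjoinRoot.mk_eq_zero] at h2
      have h3 : C (p.1 - q.1) + C (p.2 - q.2) * X = (0 : A[X]) := by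
        by_contra hne
        refine hmon.not_dvd_of_degree_lt hne ?_ h2
        rw [hdeg]
        refine lt_of_le_of_lt (degree_add_le _ _) (max_lt ?_ ?_)
        · exact lt_of_le_of_lt degree_C_le (by norm_num)
        · exact lt_of_le_of_lt (degree_C_mul_X_le _) (by norm_num)
      have h4 := congrArg (fun r : A[X] => r.coeff 0) h3
      have h5 := congrArg (fun r : A[X] => r.coeff 1) h3
      simp [coeff_C] at h4 h5
      exact Prod.ext (sub_eq_zero.mp h4) (sub_eq_zero.mp h5)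
    · intro b
      obtain ⟨x, rfl⟩ := h.2 b
      obtain ⟨p, rfl⟩ := AdjoinRoot.mk_surjective x
      have h1 : AdjoinRoot.mk (X ^ 2 - C f) p = AdjoinRoot.mk (X ^ 2 - C f) (p %ₘ (X ^ 2 - C f)) := by
        conv_lhs => rw [← modByMonic_add_div p (X ^ 2 - C f)]
        rw [map_add, map_mul, AdjoinRoot.mk_self, zero_mul, add_zero]
      have h2 : (p %ₘ (X ^ 2 - C f)).degree < 2 := by
        rw [← hdeg]
        exact degree_modByMonic_lt p hmon
      have h3 : p %ₘ (X ^ 2 - C f) = C ((p %ₘ (X ^ 2 - C f)).coeff 0) + C ((p %ₘ (X ^ 2 - C f)).coeff 1) * X := by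
        have h4 : (p %ₘ (X ^ 2 - C f)).natDegree ≤ 1 := by
          have h5 : (p %ₘ (X ^ 2 - C f)).natDegree < 2 := by
            rcases eq_or_ne (p %ₘ (X ^ 2 - C f)) 0 with h6 | h6
            · rw [h6, natDegree_zero]
              norm_num
            · exact (natDegree_lt_iff_degree_lt h6).mpr h2
          omega
        conv_lhs => rw [eq_X_add_C_of_natDegree_le_one h4]
        rw [add_comm]
      refine ⟨((p %ₘ (X ^ 2 - C f)).coeff 0, (p %ₘ (X ^ 2 - C f)).coeff 1), ?_⟩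
      refine (hval _ _).symm.trans ?_
      rw [← h3, ← h1]

theorem finite_of_bij (φ : A →+* B) (t : B)
    (h : Function.Surjective (fun p : A × A => φ p.1 + φ p.2 * t)) : φ.Finite := by
  let _ := φ.toAlgebra
  change Module.Finite A B
  rw [Module.finite_def, Submodule.fg_def]
  refine ⟨{1, t}, Set.toFinite _, ?_⟩
  rw [eq_top_iff]
  rintro b -
  obtain ⟨p, rfl⟩ := h b
  have h1 : φ p.1 + φ p.2 * t = p.1 • (1 : B) + p.2 • t := by
    rw [Algebra.smul_def, Algebra.smul_def, mul_one]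
    rfl
  simp only [h1]
  exact Submodule.add_mem _ (Submodule.smul_mem _ _ (Submodule.subset_span (Set.mem_insert _ _)))
    (Submodule.smul_mem _ _ (Submodule.subset_span (Set.mem_insert_of_mem _ rfl)))

theorem alt2 {A E N : Type*} [CommRing A] [AddCommGroup E] [Module A E] [AddCommGroup N] [Module A N]
    (q : E [⋀^Fin 2]→ₗ[A] N) (a b : E) (x y z w : A) :
    q ![x • a + y • b, z • a + w • b] = (x * w - y * z) • q ![a, b] := by
  have hsw : ∀ c d : E, q ![c, d] = - q ![d, c] := by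
    intro c d
    have h := q.map_swap ![c, d] (i := 0) (j := 1) (by decide)
    rw [← neg_eq_iff_eq_neg, ← h]
    congr 1
    funext i
    fin_cases i <;> rfl
  have hself : ∀ c : E, q ![c, c] = 0 := by
    intro c
    exact q.map_eq_zero_of_eq ![c, c] (i := 0) (j := 1) rfl (by decide)
  have h1 : ∀ c d e : E, q ![c + d, e] = q ![c, e] + q ![d, e] := fun c d e => q.map_vecCons_add ..
  have h2 : ∀ (r : A) (c e : E), q ![r • c, e] = r • q ![c, e] := fun r c e => q.map_vecCons_smul ..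
  rw [h1, h2, h2, hsw a, hsw b, h1, h1, h2, h2, h2, h2, hself, hself, hsw b a]
  module

end Alg

section Geo

variable {X Xb : Scheme.{u}} {L : X.Modules} {s : Coh.structureModule X ⟶ CohB1.tensorPow L 2} {g : Xb ⟶ X}

/-- The equation of the root in a frame. -/
theorem exists_eq (R : CycCov.Root L 2 s g) (hR : CycCov.IsSimple R) (U : X.affineOpens) (e : Sec L U.1)
    (he : Gen L U.1 e) : ∃ f : Γ(X, U.1), R.t U e he.bijective ^ 2 = (g.app U.1).hom f ∧
      Function.Bijective (fun p : Γ(X, U.1) × Γ(X, U.1) =>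
        (g.app U.1).hom p.1 + (g.app U.1).hom p.2 * R.t U e he.bijective) := by
  obtain ⟨f, hf⟩ := (Gen.lpow he 2).bijective.2 (SecTwist.val s U.1)
  refine ⟨f, R.pow_eq U e _ f hf.symm, ?_⟩
  exact bij_of_adjoinRoot _ _ f _ (hR.2 U e he.bijective f hf.symm)

theorem isFinite_of_affine_nhds (g : Xb ⟶ X) [IsAffineHom g]
    (H : ∀ x, ∃ U : X.affineOpens, x ∈ U.1 ∧ (g.app U.1).hom.Finite) : IsFinite g := by
  choose U hxU hU using H
  have hcov : ⨆ x, (U x : X.Opens) = ⊤ := by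
    rw [eq_top_iff]
    intro x _
    exact Opens.mem_iSup.mpr ⟨x, hxU x⟩
  rw [HasAffineProperty.iff_of_iSup_eq_top (P := @IsFinite) U hcov]
  intro x
  refine ⟨(U x).2.preimage g, ?_⟩
  have h1 : ∀ V : X.Opens, V = (U x).1 → (g.app V).hom.Finite := by
    rintro V rfl
    exact hU x
  have h2 : (g ∣_ (U x).1).appTop.hom =
      (Xb.presheaf.map (eqToHom (image_morphismRestrict_preimage g (U x).1 ⊤)).op).hom.comp
        (g.app ((U x).1.ι ''ᵁ ⊤)).hom := congrArg (fun a => a.hom) (morphismRestrict_appTop g (U x).1)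
  have h3 : ((Xb.presheaf.map (eqToHom (image_morphismRestrict_preimage g (U x).1 ⊤)).op).hom.comp
        (g.app ((U x).1.ι ''ᵁ ⊤)).hom).Finite := by
    refine RingHom.Finite.comp ?_ (h1 _ (by simp))
    exact RingHom.Finite.of_surjective _ (ConcreteCategory.bijective_of_isIso _).2
  exact h2 ▸ h3

/-- Small affine neighbourhoods with a frame. -/
theorem exists_affine_gen (hL : PicF.IsInvertible L) (O : X.Opens) (x : X) (hx : x ∈ O) :
    ∃ (U : X.affineOpens) (_ : x ∈ U.1) (_ : U.1 ≤ O) (e : Sec L U.1), Gen L U.1 e := by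
  obtain ⟨W, hxW, hWO, e, he⟩ := exists_gen hL O x hx
  obtain ⟨V, hV, hxV, hVW⟩ := exists_isAffineOpen_mem_and_subset (x := x) (U := W) hxW
  exact ⟨⟨V, hV⟩, hxV, (show V ≤ W from hVW).trans hWO, res L hVW e, he.restrict hVW⟩

/-- Double covers are finite. -/
theorem isFinite (R : CycCov.Root L 2 s g) (hR : CycCov.IsSimple R) (hL : PicF.IsInvertible L) : IsFinite g := by
  have := hR.1
  refine isFinite_of_affine_nhds g fun x => ?_
  obtain ⟨U, hxU, -, e, he⟩ := exists_affine_gen hL ⊤ x trivial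
  obtain ⟨f, -, hb⟩ := exists_eq R hR U e he
  exact ⟨U, hxU, finite_of_bij _ _ hb.2⟩

variable {M : Xb.Modules}

/-- The push-forward. -/
noncomputable abbrev Pf (g : Xb ⟶ X) (M : Xb.Modules) : X.Modules := (Scheme.Modules.pushforward g).obj M

/-- A section over the preimage as a section of the push-forward. -/
def toPf (g : Xb ⟶ X) {U : X.Opens} (m : Sec M (g ⁻¹ᵁ U)) : Sec (Pf g M) U := m

theorem smul_toPf {U : X.Opens} (a : Γ(X, U)) (m : Sec M (g ⁻¹ᵁ U)) :
    a • toPf g m = toPf g ((g.app U).hom a • m) := rfl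

theorem res_toPf {U V : X.Opens} (h : V ≤ U) (m : Sec M (g ⁻¹ᵁ U)) :
    res (Pf g M) h (toPf g m) = toPf g (res M (g.preimage_mono h) m) := rfl

theorem toPf_add {U : X.Opens} (m n : Sec M (g ⁻¹ᵁ U)) : toPf g (m + n) = toPf g m + toPf g n := rfl

/-- The basis of the push-forward. -/
noncomputable def bs (R : CycCov.Root L 2 s g) (U : X.affineOpens) (e : Sec L U.1)
    (he : CycCov.IsGen L U.1 e) (m : Sec M (g ⁻¹ᵁ U.1)) : Fin 2 → Sec (Pf g M) U.1 :=
  ![toPf g m, toPf g (R.t U e he • m)]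

theorem res_t (R : CycCov.Root L 2 s g) {U V : X.affineOpens} (h : V.1 ≤ U.1) (e : Sec L U.1)
    (he : Gen L U.1 e) :
    resO Xb (g.preimage_mono h) (R.t U e he.bijective) = R.t V (res L h e) (he.restrict h).bijective :=
  R.t_res U V h e _ _

theorem res_bs (R : CycCov.Root L 2 s g) {U V : X.affineOpens} (h : V.1 ≤ U.1) (e : Sec L U.1)
    (he : Gen L U.1 e) (m : Sec M (g ⁻¹ᵁ U.1)) (i : Fin 2) :
    res (Pf g M) h (bs R U e he.bijective m i) =
      bs R V (res L h e) (he.restrict h).bijective (res M (g.preimage_mono h) m) i := by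
  have h1 : res M (g.preimage_mono h) (R.t U e he.bijective • m) =
      R.t V (res L h e) (he.restrict h).bijective • res M (g.preimage_mono h) m := by
    rw [res_smul, res_t R h e he]
  fin_cases i
  · rfl
  · exact h1

theorem isLocBasis_bs (R : CycCov.Root L 2 s g) (hR : CycCov.IsSimple R) {U : X.affineOpens} {e : Sec L U.1}
    (he : Gen L U.1 e) {m : Sec M (g ⁻¹ᵁ U.1)} (hm : Gen M (g ⁻¹ᵁ U.1) m) :
    IsLocBasis (bs R U e he.bijective m) := by
  apply isLocBasis_of_locally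
  intro x V hVU hxV
  obtain ⟨W, hW, hxW, hWV⟩ := exists_isAffineOpen_mem_and_subset (x := x) (U := V) hxV
  have hWV' : W ≤ V := hWV
  let W' : X.affineOpens := ⟨W, hW⟩
  have hWU : W'.1 ≤ U.1 := hWV'.trans hVU
  refine ⟨W, hWV'.trans hVU, hWV', hxW, ?_⟩
  obtain ⟨f, -, hb⟩ := exists_eq R hR W' (res L hWU e) (he.restrict hWU)
  have hmW : Function.Bijective (fun b : Γ(Xb, g ⁻¹ᵁ W) => b • res M (g.preimage_mono hWU) m) :=
    (hm.restrict (g.preimage_mono hWU)).bijective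
  have h2 : Function.Bijective (fun a : Fin 2 → Γ(X, W) => (a 0, a 1)) := by
    refine ⟨fun a b hab => ?_, fun p => ⟨![p.1, p.2], rfl⟩⟩
    funext i
    fin_cases i
    · exact congrArg Prod.fst hab
    · exact congrArg Prod.snd hab
  have h3 := hmW.comp (hb.comp h2)
  have h5 : (comb (bs R U e he.bijective m) (hWV'.trans hVU) : (Fin 2 → Γ(X, W)) → Sec (Pf g M) W) =
      fun a => toPf g (((g.app W).hom (a 0) + (g.app W).hom (a 1) *
        R.t W' (res L hWU e) (he.restrict hWU).bijective) • res M (g.preimage_mono hWU) m) := by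
    funext a
    rw [comb_apply, Fin.sum_univ_two]
    have h4 := res_bs R (V := W') hWU e he m
    refine (congrArg₂ (· + ·) (congrArg (a 0 • ·) (h4 0)) (congrArg (a 1 • ·) (h4 1))).trans ?_
    change toPf g ((g.app W).hom (a 0) • res M (g.preimage_mono hWU) m) +
      toPf g ((g.app W).hom (a 1) • (R.t W' (res L hWU e) (he.restrict hWU).bijective •
        res M (g.preimage_mono hWU) m)) = _
    rw [← toPf_add, smul_smul, ← add_smul]
  rw [h5]
  exact h3

/-- The pull-back of a section. -/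
noncomputable abbrev ps {Z W : Scheme.{u}} (h : Z ⟶ W) {N : W.Modules} {U : W.Opens} (n : Sec N U) :
    Sec ((Scheme.Modules.pullback h).obj N) (h ⁻¹ᵁ U) := LocGen.pullSec h n

theorem ps_smul {Z W : Scheme.{u}} (h : Z ⟶ W) {N : W.Modules} {U : W.Opens} (a : Γ(W, U)) (n : Sec N U) :
    ps h (a • n) = (h.app U).hom a • ps h n := LocGen.pullSec_smul h a n

theorem res_ps {Z W : Scheme.{u}} (h : Z ⟶ W) {N : W.Modules} {U V : W.Opens} (hVU : V ≤ U) (n : Sec N U) :
    res _ (h.preimage_mono hVU) (ps h n) = ps h (res N hVU n) := LocGen.res_pullSec h hVU n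

theorem gen_ps {Z W : Scheme.{u}} (h : Z ⟶ W) {N : W.Modules} {U : W.Opens} {n : Sec N U} (hn : Gen N U n) :
    Gen _ (h ⁻¹ᵁ U) (ps h n) := gen_iff.mpr ((gen_iff.mp hn).pullSec h)

variable {Δ : X.Modules}

/-- The frame of the determinant. -/
noncomputable def dl (φ : Phi 2 (Pf g M) Δ) (R : CycCov.Root L 2 s g) (U : X.affineOpens) (e : Sec L U.1)
    (he : CycCov.IsGen L U.1 e) (m : Sec M (g ⁻¹ᵁ U.1)) : Sec Δ U.1 :=
  (φ U).symm (exteriorPower.ιMulti Γ(X, U.1) 2 (bs R U e he m))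

theorem gen_dl {φ : Phi 2 (Pf g M) Δ} (hφ : PhiComp φ) (R : CycCov.Root L 2 s g) (hR : CycCov.IsSimple R)
    {U : X.affineOpens} {e : Sec L U.1} (he : Gen L U.1 e) {m : Sec M (g ⁻¹ᵁ U.1)} (hm : Gen M (g ⁻¹ᵁ U.1) m) :
    Gen Δ U.1 (dl φ R U e he.bijective m) := isGen_top φ hφ (isLocBasis_bs R hR he hm)

theorem res_dl {φ : Phi 2 (Pf g M) Δ} (hφ : PhiComp φ) (R : CycCov.Root L 2 s g)
    {U V : X.affineOpens} (h : V.1 ≤ U.1) {e : Sec L U.1} (he : Gen L U.1 e) (m : Sec M (g ⁻¹ᵁ U.1)) :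
    res Δ h (dl φ R U e he.bijective m) =
      dl φ R V (res L h e) (he.restrict h).bijective (res M (g.preimage_mono h) m) := by
  refine (hφ U V h (bs R U e he.bijective m)).trans ?_
  unfold dl
  congr 2
  funext i
  exact res_bs R h e he m i

/-- The left frame. -/
noncomputable def lf (φ : Phi 2 (Pf g M) Δ) (R : CycCov.Root L 2 s g) (U : X.affineOpens) (e : Sec L U.1)
    (he : CycCov.IsGen L U.1 e) (m : Sec M (g ⁻¹ᵁ U.1)) :
    Sec (CohB1.tensorMod ((Scheme.Modules.pullback g).obj Δ) ((Scheme.Modules.pullback g).obj L)) (g ⁻¹ᵁ U.1) :=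
  mulR _ _ (ps g e) (ps g (dl φ R U e he m))

theorem gen_lf {φ : Phi 2 (Pf g M) Δ} (hφ : PhiComp φ) (R : CycCov.Root L 2 s g) (hR : CycCov.IsSimple R)
    {U : X.affineOpens} {e : Sec L U.1} (he : Gen L U.1 e) {m : Sec M (g ⁻¹ᵁ U.1)} (hm : Gen M (g ⁻¹ᵁ U.1) m) :
    Gen _ (g ⁻¹ᵁ U.1) (lf φ R U e he.bijective m) :=
  IsGen.tensor (gen_ps g (gen_dl hφ R hR he hm)) (gen_ps g he)

theorem res_lf {φ : Phi 2 (Pf g M) Δ} (hφ : PhiComp φ) (R : CycCov.Root L 2 s g)
    {U V : X.affineOpens} (h : V.1 ≤ U.1) {e : Sec L U.1} (he : Gen L U.1 e) (m : Sec M (g ⁻¹ᵁ U.1)) :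
    res _ (g.preimage_mono h) (lf φ R U e he.bijective m) =
      lf φ R V (res L h e) (he.restrict h).bijective (res M (g.preimage_mono h) m) := by
  unfold lf
  rw [res_mulR, res_ps g h, res_ps g h, res_dl hφ R h he]

/-- Change of frame, left-hand side. -/
theorem lf_change {φ : Phi 2 (Pf g M) Δ} (R : CycCov.Root L 2 s g) {U : X.affineOpens} {e : Sec L U.1}
    (he : Gen L U.1 e) (m : Sec M (g ⁻¹ᵁ U.1)) (v : Γ(X, U.1)) (he' : Gen L U.1 (v • e)) (x y f : Γ(X, U.1))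
    (hf : R.t U e he.bijective ^ 2 = (g.app U.1).hom f) :
    lf φ R U (v • e) he'.bijective (((g.app U.1).hom x + (g.app U.1).hom y * R.t U e he.bijective) • m) =
      (g.app U.1).hom (x ^ 2 - y ^ 2 * f) • lf φ R U e he.bijective m := by
  have ht := R.t_smul U e he.bijective v he'.bijective
  set t := R.t U e he.bijective with htdef
  set t' := R.t U (v • e) he'.bijective with ht'def
  set c := (g.app U.1).hom x + (g.app U.1).hom y * t with hc
  have h0 : toPf g (c • m) = x • toPf g m + y • toPf g (t • m) := by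
    rw [smul_toPf, smul_toPf, ← toPf_add, smul_smul, ← add_smul]
  have h1 : v • toPf g (t' • (c • m)) = (y * f) • toPf g m + x • toPf g (t • m) := by
    rw [smul_toPf, smul_toPf, smul_toPf, ← toPf_add, smul_smul, smul_smul, smul_smul, ← add_smul]
    congr 2
    have h2 : (g.app U.1).hom v * t' = t := by rw [mul_comm]; exact ht
    rw [h2, hc, map_mul, ← hf]
    ring
  have h3 : v • dl φ R U (v • e) he'.bijective (c • m) = (x ^ 2 - y ^ 2 * f) • dl φ R U e he.bijective m := by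
    have h4 : v • exteriorPower.ιMulti Γ(X, U.1) 2 ![toPf g (c • m), toPf g (t' • (c • m))] =
        exteriorPower.ιMulti Γ(X, U.1) 2 ![toPf g (c • m), v • toPf g (t' • (c • m))] := by
      have h5 := alt2 (exteriorPower.ιMulti Γ(X, U.1) 2 (M := Sec (Pf g M) U.1)) (toPf g (c • m))
        (toPf g (t' • (c • m))) 1 0 0 v
      rw [one_smul, zero_smul, add_zero, zero_smul, zero_add, one_mul, zero_mul, sub_zero] at h5
      exact h5.symm
    have h6 : v • exteriorPower.ιMulti Γ(X, U.1) 2 ![toPf g (c • m), toPf g (t' • (c • m))] =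
        (x ^ 2 - y ^ 2 * f) • exteriorPower.ιMulti Γ(X, U.1) 2 ![toPf g m, toPf g (t • m)] := by
      rw [h4, h0, h1, alt2]
      congr 1
      ring
    exact ((map_smul (φ U).symm v _).symm.trans (congrArg (φ U).symm h6)).trans (map_smul (φ U).symm _ _)
  unfold lf
  rw [ps_smul, mulR_smul, ← map_smul, ← ps_smul, h3, ps_smul, map_smul]

variable {σ : Xb ⟶ Xb} (hσg : σ ≫ g = g)

include hσg in
theorem le_pre (U : X.Opens) : g ⁻¹ᵁ U ≤ σ ⁻¹ᵁ (g ⁻¹ᵁ U) := by
  rw [← Scheme.Hom.comp_preimage, hσg]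

/-- The section `σ^* m` over the preimage of `U`. -/
noncomputable def sg (U : X.Opens) (m : Sec M (g ⁻¹ᵁ U)) : Sec ((Scheme.Modules.pullback σ).obj M) (g ⁻¹ᵁ U) :=
  res _ (le_pre hσg U) (ps σ m)

theorem gen_sg {U : X.Opens} {m : Sec M (g ⁻¹ᵁ U)} (hm : Gen M (g ⁻¹ᵁ U) m) : Gen _ (g ⁻¹ᵁ U) (sg hσg U m) :=
  (gen_ps σ hm).restrict _

theorem res_sg {U V : X.Opens} (h : V ≤ U) (m : Sec M (g ⁻¹ᵁ U)) :
    res _ (g.preimage_mono h) (sg hσg U m) = sg hσg V (res M (g.preimage_mono h) m) := by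
  unfold sg
  rw [← res_ps, res_res, res_res]

theorem sg_smul {U : X.Opens} (c : Γ(Xb, g ⁻¹ᵁ U)) (m : Sec M (g ⁻¹ᵁ U)) :
    sg hσg U (c • m) = (σ.appLE (g ⁻¹ᵁ U) (g ⁻¹ᵁ U) (le_pre hσg U)).hom c • sg hσg U m := by
  unfold sg
  rw [ps_smul, res_smul]
  rfl

/-- The right frame. -/
noncomputable def rf (U : X.Opens) (m : Sec M (g ⁻¹ᵁ U)) :
    Sec (CohB1.tensorMod M ((Scheme.Modules.pullback σ).obj M)) (g ⁻¹ᵁ U) :=
  mulR _ _ (sg hσg U m) m

theorem gen_rf {U : X.Opens} {m : Sec M (g ⁻¹ᵁ U)} (hm : Gen M (g ⁻¹ᵁ U) m) : Gen _ (g ⁻¹ᵁ U) (rf hσg U m) :=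
  IsGen.tensor hm (gen_sg hσg hm)

theorem res_rf {U V : X.Opens} (h : V ≤ U) (m : Sec M (g ⁻¹ᵁ U)) :
    res _ (g.preimage_mono h) (rf hσg U m) = rf hσg V (res M (g.preimage_mono h) m) := by
  unfold rf
  rw [res_mulR, res_sg hσg h]

theorem rf_smul {U : X.Opens} (c : Γ(Xb, g ⁻¹ᵁ U)) (m : Sec M (g ⁻¹ᵁ U)) :
    rf hσg U (c • m) = (c * (σ.appLE (g ⁻¹ᵁ U) (g ⁻¹ᵁ U) (le_pre hσg U)).hom c) • rf hσg U m := by
  unfold rf
  rw [sg_smul, mulR_smul, map_smul, smul_smul, mul_comm]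

theorem appLE_app (U : X.Opens) (x : Γ(X, U)) :
    (σ.appLE (g ⁻¹ᵁ U) (g ⁻¹ᵁ U) (le_pre hσg U)).hom ((g.app U).hom x) = (g.app U).hom x := by
  have h : g.app U ≫ σ.appLE (g ⁻¹ᵁ U) (g ⁻¹ᵁ U) (le_pre hσg U) = g.app U := by
    rw [Scheme.Hom.app_eq_appLE, Scheme.Hom.appLE_comp_appLE]
    simp_rw [hσg]
  exact congr($(h).hom x)

/-- Comparison of two frames over one affine open. -/
theorem compare (φ : Phi 2 (Pf g M) Δ) (R : CycCov.Root L 2 s g) (hR : CycCov.IsSimple R)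
    (hσt : ∀ (U : X.affineOpens) (e : Sec L U.1) (he : CycCov.IsGen L U.1 e)
      (hle : g ⁻¹ᵁ U.1 ≤ σ ⁻¹ᵁ (g ⁻¹ᵁ U.1)),
      (σ.appLE (g ⁻¹ᵁ U.1) (g ⁻¹ᵁ U.1) hle).hom (R.t U e he) = -R.t U e he)
    {U : X.affineOpens} {e e' : Sec L U.1} (he : Gen L U.1 e) (he' : Gen L U.1 e')
    {m m' : Sec M (g ⁻¹ᵁ U.1)} (hm : Gen M (g ⁻¹ᵁ U.1) m) :
    ∃ N : Γ(Xb, g ⁻¹ᵁ U.1), lf φ R U e' he'.bijective m' = N • lf φ R U e he.bijective m ∧
      rf hσg U.1 m' = N • rf hσg U.1 m := by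
  obtain ⟨v, rfl⟩ := he.bijective.2 e'
  obtain ⟨c, rfl⟩ := hm.bijective.2 m'
  obtain ⟨f, hf, hb⟩ := exists_eq R hR U e he
  obtain ⟨⟨x, y⟩, rfl⟩ := hb.2 c
  refine ⟨(g.app U.1).hom (x ^ 2 - y ^ 2 * f), ?_, ?_⟩
  · exact lf_change R he m v he' x y f hf
  · simp only
    rw [rf_smul hσg, map_add, map_mul, appLE_app hσg, appLE_app hσg, hσt U e he.bijective]
    congr 1
    rw [map_sub, map_mul, map_pow, map_pow, ← hf]
    ring

/-- The index set of frames. -/
structure Ix (g : Xb ⟶ X) (L : X.Modules) (M : Xb.Modules) where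
  /-- affine open -/
  U : X.affineOpens
  /-- frame -/
  e : Sec L U.1
  he : Gen L U.1 e
  /-- frame -/
  m : Sec M (g ⁻¹ᵁ U.1)
  hm : Gen M (g ⁻¹ᵁ U.1) m
  /-- open -/
  W : Xb.Opens
  hW : W ≤ g ⁻¹ᵁ U.1

theorem isBasis [IsFinite g] (hL : PicF.IsInvertible L) (hM : PicF.IsInvertible M) :
    Opens.IsBasis (Set.range (fun i : Ix g L M => i.W)) := by
  rw [Opens.isBasis_iff_nbhd]
  intro O z hz
  obtain ⟨W₁, m₁, hx₁, -, hm₁⟩ :=
    Groth.Agent.VarietyA.FinTriv.exists_isGen_preimage g M hM (g z) ⊤ trivial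
  obtain ⟨U, hxU, hU, e, he⟩ := exists_affine_gen hL W₁ (g z) hx₁
  refine ⟨O ⊓ g ⁻¹ᵁ U.1, ⟨⟨U, e, he, res M (g.preimage_mono hU) m₁,
    (gen_iff.mpr hm₁).restrict _, O ⊓ g ⁻¹ᵁ U.1, inf_le_right⟩, rfl⟩, ⟨hz, hxU⟩, inf_le_left⟩

theorem main (R : CycCov.Root L 2 s g) (hR : CycCov.IsSimple R) (hL : PicF.IsInvertible L)
    (hM : PicF.IsInvertible M) (hσg : σ ≫ g = g)
    (hσt : ∀ (U : X.affineOpens) (e : Sec L U.1) (he : CycCov.IsGen L U.1 e)
      (hle : g ⁻¹ᵁ U.1 ≤ σ ⁻¹ᵁ (g ⁻¹ᵁ U.1)),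
      (σ.appLE (g ⁻¹ᵁ U.1) (g ⁻¹ᵁ U.1) hle).hom (R.t U e he) = -R.t U e he)
    (hΔ : ExtPow.IsExtPow 2 (Pf g M) Δ) :
    Nonempty (CohB1.tensorMod ((Scheme.Modules.pullback g).obj Δ) ((Scheme.Modules.pullback g).obj L) ≅
      CohB1.tensorMod M ((Scheme.Modules.pullback σ).obj M)) := by
  have hfin := isFinite R hR hL
  obtain ⟨φ, hφ⟩ := hΔ
  let l : ∀ i : Ix g L M, Sec _ i.W := fun i => res _ i.hW (lf φ R i.U i.e i.he.bijective i.m)
  let r : ∀ i : Ix g L M, Sec _ i.W := fun i => res _ i.hW (rf hσg i.U.1 i.m)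
  have hl : ∀ i, IsGen (l i) := fun i => (gen_lf hφ R hR i.he i.hm).restrict i.hW
  have hr : ∀ i, IsGen (r i) := fun i => (gen_rf hσg i.hm).restrict i.hW
  refine nonempty_iso_of_gens (isBasis hL hM) _ _ l r hl hr ?_
  intro i j h
  obtain ⟨a, ha⟩ := (hl j).exists_smul (res _ h (l i))
  refine ⟨a, ha, ?_⟩
  apply eq_of_locally
  intro z hz
  obtain ⟨V, hV, hxV, hVU⟩ := exists_isAffineOpen_mem_and_subset (x := g z) (U := i.U.1 ⊓ j.U.1)
    ⟨i.hW (h hz), j.hW hz⟩
  have hVi : V ≤ i.U.1 := (show V ≤ i.U.1 ⊓ j.U.1 from hVU).trans inf_le_left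
  have hVj : V ≤ j.U.1 := (show V ≤ i.U.1 ⊓ j.U.1 from hVU).trans inf_le_right
  let V' : X.affineOpens := ⟨V, hV⟩
  obtain ⟨N, hN1, hN2⟩ := compare hσg φ R hR hσt (U := V') (j.he.restrict hVj) (i.he.restrict hVi)
    (m := res M (g.preimage_mono hVj) j.m) (m' := res M (g.preimage_mono hVi) i.m)
    (j.hm.restrict (g.preimage_mono hVj))
  let W' : Xb.Opens := j.W ⊓ g ⁻¹ᵁ V
  have hW'j : W' ≤ j.W := inf_le_left
  have hW'V : W' ≤ g ⁻¹ᵁ V := inf_le_right
  refine ⟨W', hW'j, ⟨hz, hxV⟩, ?_⟩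
  rw [← res_lf hφ R (V := V') hVi i.he, ← res_lf hφ R (V := V') hVj j.he] at hN1
  rw [← res_rf hσg (V := V) hVi, ← res_rf hσg (V := V) hVj] at hN2
  have h1 := congrArg (res _ hW'V) hN1
  have h2 := congrArg (res _ hW'V) hN2
  rw [res_smul, res_res, res_res] at h1 h2
  have h3 := congrArg (res _ hW'j) ha
  rw [res_smul] at h3
  simp only [l, r, res_res] at h3 ⊢
  have h4 : resO Xb hW'j a = resO Xb hW'V N := by
    have h5 : Gen _ W' (res _ (hW'j.trans j.hW) (lf φ R j.U j.e j.he.bijective j.m)) :=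
      (gen_lf hφ R hR j.he j.hm).restrict _
    apply h5.bijective.1
    exact h3.symm.trans h1
  rw [h2, res_smul, res_res, h4]

end Geo

end K892.DblCov
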