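import Groth.Agent.CycCov.K892.Frames
import Groth.Agent.LogNCD.K922.LogBasis

/-!
# Local frames adapted to a root of a divisor
-/

set_option autoImplicit false

universe u

open CategoryTheory CategoryTheory.Limits AlgebraicGeometry Opposite TopologicalSpace
open scoped TensorProduct
open Groth.Agent.Sga67.Sec Groth.Agent.Sga67.LocBasis

namespace K892.Frame

open K922.Tens K922.Quot K922.DSec K922.Coord K892.RankOne K892.Frames
open Groth.Agent.Fdesc Groth.Agent.Dix

variable {X : Scheme.{u}}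

theorem ideal_prod {r : ℕ} (s : Finset (Fin r)) (D : Fin r → X.IdealSheafData) (U : X.affineOpens) :
    (∏ j ∈ s, D j).ideal U = ∏ j ∈ s, (D j).ideal U := by
  classical
  induction s using Finset.induction_on with
  | empty =>
    simp only [Finset.prod_empty]
    change (⊤ : X.IdealSheafData).ideal U = 1
    rw [Ideal.one_eq_top]
    rfl
  | insert i s hi ih =>
    rw [Finset.prod_insert hi, Finset.prod_insert hi, Scheme.IdealSheafData.ideal_mul, Pi.mul_apply, ih]

theorem divIdeal_ideal {r : ℕ} (D : Fin r → X.IdealSheafData) (α : Fin r → ℕ) (U : X.affineOpens)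
    (g : Fin r → Γ(X, U.1)) (hg : ∀ j, (D j).ideal U = Ideal.span {g j}) :
    (CycCov.divIdeal D α).ideal U = Ideal.span {∏ j, g j ^ α j} := by
  unfold CycCov.divIdeal
  rw [ideal_prod, ← Ideal.prod_span_singleton]
  refine Finset.prod_congr rfl fun j _ => ?_
  rw [Scheme.IdealSheafData.ideal_pow, Pi.pow_apply, hg, Ideal.span_singleton_pow]

theorem gen_of_function {I : X.IdealSheafData} {U : X.Opens} {y : Sec (ClSub.idealMod I) U}
    {a : Γ(X, U)} (hy : OmegaSh.idealSect I U y = a) (ha : IsReg U a)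
    (h : ∀ V : X.affineOpens, ∀ hV : V.1 ≤ U, I.ideal V = Ideal.span {resO X hV a}) :
    Gen (ClSub.idealMod I) U y := by
  rw [gen_iff]
  apply IdealModCartier.isGen_of_genOn
  intro W hW
  have hv : IdealModCartier.val I y = a := hy
  rw [hv]
  exact ⟨(ha.restrict hW).mem_nonZeroDivisors, h W hW⟩

/-- From `(f) = (g)` with `g` regular to `f = w g` with `w` a unit. -/
theorem exists_unit_of_span_eq {R : Type*} [CommRing R] {a b : R} (hb : b ∈ nonZeroDivisors R)
    (h : Ideal.span {a} = Ideal.span {b}) : ∃ w : R, IsUnit w ∧ a = w * b := by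
  obtain ⟨w, hw⟩ := Ideal.mem_span_singleton'.mp (h ▸ Ideal.mem_span_singleton_self a)
  obtain ⟨v, hv⟩ := Ideal.mem_span_singleton'.mp (h.symm ▸ Ideal.mem_span_singleton_self b)
  refine ⟨w, ?_, hw.symm⟩
  have h1 : (v * w) * b = 1 * b := by
    rw [mul_assoc, hw, hv, one_mul]
  exact IsUnit.of_mul_eq_one_right v ((mul_cancel_right_mem_nonZeroDivisors hb).mp h1)

/-- The function `f` with `s = f e` for a generator `e`, given the divisor of zeros. -/
theorem exists_function {M : X.Modules} {s : Coh.structureModule X ⟶ M} {I : X.IdealSheafData}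
    (hs : CycCov.IsZeroDiv M s I) (U : X.affineOpens) {e : Sec M U.1} (he : Gen M U.1 e)
    {b : Γ(X, U.1)} (hb : b ∈ nonZeroDivisors Γ(X, U.1)) (hI : I.ideal U = Ideal.span {b}) :
    ∃ w : Γ(X, U.1), IsUnit w ∧ SecTwist.val s U.1 = (w * b) • e := by
  obtain ⟨a, ha⟩ := he.bijective.2 (SecTwist.val s U.1)
  simp only at ha
  have h1 := hs U
  rw [← ha, hI] at h1
  have h2 : Ideal.span {a} = Ideal.span {b} := by
    apply le_antisymm
    · rw [Ideal.span_singleton_le_iff_mem]
      have h3 : a • e ∈ Ideal.span {b} • (⊤ : Submodule Γ(X, U.1) (Sec M U.1)) := by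
        rw [← h1]
        exact Submodule.mem_span_singleton_self _
      rw [Submodule.ideal_span_singleton_smul, Submodule.mem_smul_pointwise_iff_exists] at h3
      obtain ⟨t, -, ht⟩ := h3
      obtain ⟨c, rfl⟩ := he.bijective.2 t
      simp only at ht
      rw [Ideal.mem_span_singleton']
      refine ⟨c, he.bijective.1 ?_⟩
      simp only
      rw [mul_comm, mul_smul, ht]
    · rw [Ideal.span_singleton_le_iff_mem]
      have h3 : b • e ∈ Ideal.span {b} • (⊤ : Submodule Γ(X, U.1) (Sec M U.1)) :=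
        Submodule.smul_mem_smul (Ideal.mem_span_singleton_self b) trivial
      rw [← h1, Submodule.mem_span_singleton] at h3
      obtain ⟨c, hc⟩ := h3
      rw [Ideal.mem_span_singleton']
      refine ⟨c, he.bijective.1 ?_⟩
      simp only
      rw [mul_smul, hc]
  obtain ⟨w, hw, h3⟩ := exists_unit_of_span_eq hb h2
  exact ⟨w, hw, by rw [← h3, ha]⟩

variable {S : Scheme.{u}}

/-- Local data on an affine open. -/
structure Fr {r : ℕ} (D : Fin r → X.IdealSheafData) (α : Fin r → ℕ) (N i : ℕ) (L M : X.Modules)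
    (s : Coh.structureModule X ⟶ CohB1.tensorPow L N) (V : X.affineOpens) where
  g : Fin r → Γ(X, V.1)
  reg : ∀ j, IsReg V.1 (g j)
  ideal : ∀ (j : Fin r) (W : X.affineOpens) (h : W.1 ≤ V.1), (D j).ideal W = Ideal.span {resO X h (g j)}
  e : Sec L V.1
  gen_e : Gen L V.1 e
  y : Sec (ClSub.idealMod (CycCov.floorIdeal D α N i)) V.1
  idealSect_y : OmegaSh.idealSect (CycCov.floorIdeal D α N i) V.1 y = ∏ j, g j ^ (i * α j / N)
  gen_y : Gen (ClSub.idealMod (CycCov.floorIdeal D α N i)) V.1 y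
  m : Sec M V.1
  gen_m : Gen M V.1 m
  w : Γ(X, V.1)
  unit_w : IsUnit w
  val_s : SecTwist.val s V.1 = (w * ∏ j, g j ^ α j) • CycCov.lpow L V.1 e N

theorem exists_fr (f : X ⟶ S) [Smooth f] {r : ℕ} {D : Fin r → X.IdealSheafData} (hD : LogNCD.IsNCD D f)
    {α : Fin r → ℕ} (N i : ℕ) {L M : X.Modules} (hL : PicF.IsInvertible L) (hM : PicF.IsInvertible M)
    {s : Coh.structureModule X ⟶ CohB1.tensorPow L N}
    (hs : CycCov.IsZeroDiv (CohB1.tensorPow L N) s (CycCov.divIdeal D α))
    {O : X.Opens} {x : X} (hx : x ∈ O) :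
    ∃ V : X.affineOpens, x ∈ V.1 ∧ V.1 ≤ O ∧ Nonempty (Fr D α N i L M s V) := by
  obtain ⟨U₁, hx₁, hU₁, e, he⟩ := exists_gen hL O x hx
  obtain ⟨U₂, hx₂, hU₂, m, hm⟩ := exists_gen hM U₁ x hx₁
  obtain ⟨V, n, c, hxV, hV⟩ := K922.Chart.exists_chart hD hx₂
  have hV₁ := hV.trans hU₂
  have hI : ∀ (β : Fin r → ℕ) (W : X.affineOpens) (h : W.1 ≤ V.1), (CycCov.divIdeal D β).ideal W =
      Ideal.span {resO X h (∏ j, c.g j ^ β j)} := by
    intro β W h
    rw [divIdeal_ideal D β W (fun j => resO X h (c.g j)) (fun j => c.ideal j W h), map_prod]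
    simp only [map_pow]
  have hreg : ∀ (β : Fin r → ℕ), IsReg V.1 (∏ j, c.g j ^ β j) := fun β =>
    IsReg.prod _ fun j _ => (c.isReg_g j).pow _
  obtain ⟨y, hy⟩ := (exists_idealSect_iff (CycCov.floorIdeal D α N i) V
    (∏ j, c.g j ^ (i * α j / N))).mpr (by
      have h1 := hI (fun j => i * α j / N) V le_rfl
      rw [resO_self] at h1
      change _ ∈ (CycCov.divIdeal D (fun j => i * α j / N)).ideal V
      rw [h1]
      exact Ideal.mem_span_singleton_self _)
  have hgy := gen_of_function hy (hreg _) (fun W h => hI (fun j => i * α j / N) W h)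
  have he' := he.restrict hV₁
  obtain ⟨w, hw, hval⟩ := exists_function hs V (Gen.lpow he' N) (hreg α).mem_nonZeroDivisors (by
    have h1 := hI α V le_rfl
    rwa [resO_self] at h1)
  exact ⟨V, hxV, hV₁.trans hU₁, ⟨⟨c.g, c.isReg_g, c.ideal, res L hV₁ e, he', y, hy, hgy,
    res M hV m, hm.restrict hV, w, hw, hval⟩⟩⟩

end K892.Frame
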