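import Groth.Agent.CycCov.K892.Frame

/-!
# The function attached to a generator of the inverse of the integral part
-/

set_option autoImplicit false

universe u

open CategoryTheory CategoryTheory.Limits AlgebraicGeometry Opposite TopologicalSpace
open scoped TensorProduct
open Groth.Agent.Sga67.Sec Groth.Agent.Sga67.LocBasis

namespace K892.Pair

open K922.Tens K922.Quot K922.DSec K922.Coord K892.RankOne K892.Frames K892.Frame

variable {X : Scheme.{u}} {r : ℕ} {D : Fin r → X.IdealSheafData} {α : Fin r → ℕ} {N i : ℕ}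
  {L M : X.Modules} {S : Scheme.{u}} (η : CohB1.tensorMod (CycCov.intPart L D α N i) M ≅ Coh.structureModule X)

/-- The section `e^i ⊗ y` of the integral part. -/
noncomputable def ip {V : X.Opens} (e : Sec L V)
    (y : Sec (ClSub.idealMod (CycCov.floorIdeal D α N i)) V) : Sec (CycCov.intPart L D α N i) V :=
  tau (CohB1.tensorPow L i) (ClSub.idealMod (CycCov.floorIdeal D α N i)) V
    (CycCov.lpow L V e i ⊗ₜ[Γ(X, V)] y)

theorem ip_smul_y {V : X.Opens} (e : Sec L V)
    (y : Sec (ClSub.idealMod (CycCov.floorIdeal D α N i)) V) (v : Γ(X, V)) :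
    ip e (v • y) = v • ip e y := by
  unfold ip
  rw [TensorProduct.tmul_smul]
  exact map_smul _ _ _

theorem ip_smul_e {V : X.Opens} (e : Sec L V)
    (y : Sec (ClSub.idealMod (CycCov.floorIdeal D α N i)) V) (v : Γ(X, V)) :
    ip (v • e) y = v ^ i • ip e y := by
  unfold ip
  rw [lpow_smul, TensorProduct.smul_tmul, TensorProduct.tmul_smul]
  exact map_smul _ _ _

theorem res_ip {V W : X.Opens} (h : W ≤ V) (e : Sec L V)
    (y : Sec (ClSub.idealMod (CycCov.floorIdeal D α N i)) V) :
    res (CycCov.intPart L D α N i) h (ip e y) = ip (res L h e) (res _ h y) := by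
  have h1 := (tau_tres (CohB1.tensorPow L i) (ClSub.idealMod (CycCov.floorIdeal D α N i)) h
    (CycCov.lpow L V e i ⊗ₜ[Γ(X, V)] y)).symm
  rw [tres_tmul, res_lpow] at h1
  exact h1

theorem gen_ip {V : X.Opens} {e : Sec L V} (he : Gen L V e)
    {y : Sec (ClSub.idealMod (CycCov.floorIdeal D α N i)) V} (hy : Gen _ V y) :
    Gen (CycCov.intPart L D α N i) V (ip e y) := Gen.tau (Gen.lpow he i) hy

/-- The tensor `(e^i ⊗ y) ⊗ m`. -/
noncomputable def ten {V : X.Opens} (z : Sec (CycCov.intPart L D α N i) V) (m : Sec M V) :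
    Sec (CohB1.tensorMod (CycCov.intPart L D α N i) M) V :=
  tau (CycCov.intPart L D α N i) M V (z ⊗ₜ[Γ(X, V)] m)

theorem ten_smul_right {V : X.Opens} (z : Sec (CycCov.intPart L D α N i) V) (m : Sec M V) (v : Γ(X, V)) :
    ten z (v • m) = v • ten z m := by
  unfold ten
  rw [TensorProduct.tmul_smul, map_smul]

theorem ten_smul_left {V : X.Opens} (z : Sec (CycCov.intPart L D α N i) V) (m : Sec M V) (v : Γ(X, V)) :
    ten (v • z) m = v • ten z m := by
  unfold ten
  rw [TensorProduct.smul_tmul, TensorProduct.tmul_smul, map_smul]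

/-- The function `η((e^i ⊗ y) ⊗ m)`. -/
noncomputable def P {V : X.Opens} (e : Sec L V)
    (y : Sec (ClSub.idealMod (CycCov.floorIdeal D α N i)) V) (m : Sec M V) : Γ(X, V) :=
  toO (appS η.hom V (ten (ip e y) m))

theorem P_smul_m {V : X.Opens} (e : Sec L V)
    (y : Sec (ClSub.idealMod (CycCov.floorIdeal D α N i)) V) (m : Sec M V) (v : Γ(X, V)) :
    P η e y (v • m) = v * P η e y m := by
  unfold P
  rw [ten_smul_right, map_smul, toO_smul]

theorem P_smul_y {V : X.Opens} (e : Sec L V)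
    (y : Sec (ClSub.idealMod (CycCov.floorIdeal D α N i)) V) (m : Sec M V) (v : Γ(X, V)) :
    P η e (v • y) m = v * P η e y m := by
  unfold P
  rw [ip_smul_y, ten_smul_left, map_smul, toO_smul]

theorem P_smul_e {V : X.Opens} (e : Sec L V)
    (y : Sec (ClSub.idealMod (CycCov.floorIdeal D α N i)) V) (m : Sec M V) (v : Γ(X, V)) :
    P η (v • e) y m = v ^ i * P η e y m := by
  unfold P
  rw [ip_smul_e, ten_smul_left, map_smul, toO_smul]

theorem resO_P {V W : X.Opens} (h : W ≤ V) (e : Sec L V)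
    (y : Sec (ClSub.idealMod (CycCov.floorIdeal D α N i)) V) (m : Sec M V) :
    resO X h (P η e y m) = P η (res L h e) (res _ h y) (res M h m) := by
  unfold P ten
  rw [← toO_res, ← appS_res, ← tau_tres, tres_tmul, res_ip]

theorem isUnit_P {V : X.Opens} {e : Sec L V} (he : Gen L V e)
    {y : Sec (ClSub.idealMod (CycCov.floorIdeal D α N i)) V} (hy : Gen _ V y) {m : Sec M V}
    (hm : Gen M V m) : IsUnit (P η e y m) :=
  isUnit_of_gen (Gen.appIso η (Gen.tau (gen_ip he hy) hm))

/-- `h` is the function `m^N s^i`. -/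
def H (s : Coh.structureModule X ⟶ CohB1.tensorPow L N) (U : X.Opens) (m : Sec M U) (h : Γ(X, U)) : Prop :=
  ∀ (V : X.Opens) (hV : V ≤ U) (e : Sec L V)
    (y : Sec (ClSub.idealMod (CycCov.floorIdeal D α N i)) V) (g : Γ(X, V)),
    SecTwist.val s V = g • CycCov.lpow L V e N →
      resO X hV h * OmegaSh.idealSect (CycCov.floorIdeal D α N i) V y ^ N =
        P η e y (res M hV m) ^ N * g ^ i

variable {s : Coh.structureModule X ⟶ CohB1.tensorPow L N}

theorem H.restrict {U W : X.Opens} (hW : W ≤ U) {m : Sec M U} {h : Γ(X, U)} (hH : H η s U m h) :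
    H η s W (res M hW m) (resO X hW h) := by
  intro V hV e y g hg
  rw [resO_resO, res_res]
  exact hH V (hV.trans hW) e y g hg

theorem res_val {U V : X.Opens} (h : V ≤ U) :
    res (CohB1.tensorPow L N) h (SecTwist.val s U) = SecTwist.val s V :=
  SecTwist.map_val s (homOfLE h)

/-- Existence of `h` on a local frame. -/
theorem exists_H {V : X.affineOpens} (F : Fr D α N i L M s V) :
    H η s V.1 F.m (P η F.e F.y F.m ^ N * F.w ^ i * ∏ j, F.g j ^ CycCov.resNum α N i j) := by
  intro W hW e' y' g' hg'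
  obtain ⟨c, rfl⟩ := (F.gen_e.restrict hW).bijective.2 e'
  obtain ⟨b, rfl⟩ := (F.gen_y.restrict hW).bijective.2 y'
  simp only at hg' ⊢
  rw [idealSect_smul, idealSect_res, F.idealSect_y, P_smul_e, P_smul_y, ← resO_P]
  have h1 : g' * c ^ N = resO X hW (F.w * ∏ j, F.g j ^ α j) := by
    apply ((Gen.lpow F.gen_e N).restrict hW).bijective.1
    simp only
    rw [← res_smul, ← F.val_s, res_val, hg', lpow_smul, res_lpow, smul_smul]
  have h2 : resO X hW (∏ j, F.g j ^ CycCov.resNum α N i j) * resO X hW (∏ j, F.g j ^ (i * α j / N)) ^ N =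
      resO X hW (∏ j, F.g j ^ α j) ^ i := by
    rw [← map_pow, ← map_mul, ← map_pow, ← Finset.prod_pow, ← Finset.prod_mul_distrib, ← Finset.prod_pow]
    congr 1
    refine Finset.prod_congr rfl fun j _ => ?_
    rw [← pow_mul, ← pow_add, ← pow_mul]
    congr 1
    unfold CycCov.resNum
    rw [mul_comm (i * α j / N), Nat.mod_add_div, mul_comm]
  have h3 : (c ^ i * (b * resO X hW (P η F.e F.y F.m))) ^ N * g' ^ i =
      (b * resO X hW (P η F.e F.y F.m)) ^ N * (g' * c ^ N) ^ i := by
    ring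
  rw [h3, h1]
  simp only [map_mul, map_pow, mul_pow]
  rw [← h2]
  ring

theorem eqO_of_frames {f : X ⟶ S} [Smooth f] (hD : LogNCD.IsNCD D f) (hL : PicF.IsInvertible L)
    (hM : PicF.IsInvertible M)
    (hs : CycCov.IsZeroDiv (CohB1.tensorPow L N) s (CycCov.divIdeal D α)) {U : X.Opens} {a b : Γ(X, U)}
    (h : ∀ (V : X.affineOpens) (hV : V.1 ≤ U), Fr D α N i L M s V → resO X hV a = resO X hV b) : a = b := by
  apply eqO_of_locally
  intro x hx
  obtain ⟨V, hxV, hVU, ⟨F⟩⟩ := exists_fr f hD N i hL hM hs hx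
  exact ⟨V.1, hVU, hxV, h V hVU F⟩

theorem Fr.reg_y {V : X.affineOpens} (F : Fr D α N i L M s V) :
    IsReg V.1 (OmegaSh.idealSect (CycCov.floorIdeal D α N i) V.1 F.y) := by
  rw [F.idealSect_y]
  exact IsReg.prod _ fun j _ => (F.reg j).pow _

/-- Change of generator. -/
theorem H.smul {f : X ⟶ S} [Smooth f] (hD : LogNCD.IsNCD D f) (hL : PicF.IsInvertible L)
    (hM : PicF.IsInvertible M)
    (hs : CycCov.IsZeroDiv (CohB1.tensorPow L N) s (CycCov.divIdeal D α)) {U : X.Opens} {m : Sec M U}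
    {v h h' : Γ(X, U)} (hm : H η s U m h) (hm' : H η s U (v • m) h') : h' = v ^ N * h := by
  apply eqO_of_frames (i := i) hD hL hM hs
  intro V hV F
  have h1 := hm V.1 hV F.e F.y _ F.val_s
  have h2 := hm' V.1 hV F.e F.y _ F.val_s
  rw [res_smul, P_smul_m, mul_pow] at h2
  have h3 : (resO X hV h' - resO X hV (v ^ N * h)) *
      OmegaSh.idealSect (CycCov.floorIdeal D α N i) V.1 F.y ^ N = 0 := by
    rw [sub_mul, h2, map_mul, map_pow, mul_assoc _ (resO X hV h), h1]
    ring
  have h4 := ((Fr.reg_y F).pow N) V.1 le_rfl _ (by rw [resO_self, mul_comm]; exact h3)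
  exact sub_eq_zero.mp h4

end K892.Pair
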