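import Groth.Agent.LogNCD.K922.DSec

/-!
# Connections on rank one modules from local generators and their connection forms
-/

set_option autoImplicit false

universe u

open CategoryTheory CategoryTheory.Limits AlgebraicGeometry Opposite TopologicalSpace
open scoped TensorProduct
open Groth.Agent.Sga67.Sec Groth.Agent.Sga67.LocBasis

namespace K892.RankOne

open K922.Tens K922.DSec

variable {X : Scheme.{u}}

/-- Morphisms of underlying abelian sheaves from compatible additive maps on a basis. -/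
theorem exists_ab_hom {ι : Type*} {B : ι → X.Opens} (hB : Opens.IsBasis (Set.range B))
    (M N : X.Modules) (φ : ∀ i, Sec M (B i) →+ Sec N (B i))
    (hφ : ∀ i j (h : B j ≤ B i) (s : Sec M (B i)), φ j (res M h s) = res N h (φ i s)) :
    ∃ f : Coh.toAb M ⟶ Coh.toAb N, ∀ i (s : Sec M (B i)), ConnSh.secApp f (B i) s = φ i s := by
  let α : (inducedFunctor B).op ⋙ M.presheaf ⟶ (inducedFunctor B).op ⋙ N.presheaf :=
    { app := fun i => AddCommGrpCat.ofHom (φ i.unop)
      naturality := fun i j f => by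
        ext s
        exact hφ i.unop j.unop (leOfHom f.unop.hom) s }
  let β : M.presheaf ⟶ N.presheaf :=
    TopCat.Sheaf.restrictHomEquivHom M.presheaf ⟨N.presheaf, N.isSheaf⟩ hB α
  refine ⟨⟨β⟩, fun i s => ?_⟩
  have := TopCat.Sheaf.extend_hom_app M.presheaf ⟨N.presheaf, N.isSheaf⟩ hB α i
  exact congr($this s)

/-- A generator on `U` and on all smaller opens. -/
def Gen (M : X.Modules) (U : X.Opens) (m : Sec M U) : Prop :=
  IsLocBasis (fun _ : Fin 1 => m)

theorem Gen.restrict {M : X.Modules} {U : X.Opens} {m : Sec M U} (hm : Gen M U m) {V : X.Opens}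
    (h : V ≤ U) : Gen M V (res M h m) := IsLocBasis.restrict hm h

theorem Gen.bijective {M : X.Modules} {U : X.Opens} {m : Sec M U} (hm : Gen M U m) :
    Function.Bijective (fun a : Γ(X, U) => a • m) := by
  have h := hm U le_rfl
  have e : (fun a : Γ(X, U) => a • m) = comb (fun _ : Fin 1 => m) le_rfl ∘ (fun a _ => a) := by
    funext a
    simp [comb_apply, res_self]
  rw [e]
  refine h.comp ⟨fun a b hab => congr_fun hab 0, fun a => ⟨a 0, ?_⟩⟩
  funext i
  rw [Subsingleton.elim i 0]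

/-- The coordinate with respect to a generator. -/
noncomputable def coord {M : X.Modules} {U : X.Opens} {m : Sec M U} (hm : Gen M U m) :
    Sec M U ≃ₗ[Γ(X, U)] Γ(X, U) :=
  (LinearEquiv.ofBijective ((LinearMap.id : Γ(X, U) →ₗ[Γ(X, U)] Γ(X, U)).smulRight m) hm.bijective).symm

theorem coord_smul {M : X.Modules} {U : X.Opens} {m : Sec M U} (hm : Gen M U m) (s : Sec M U) :
    coord hm s • m = s :=
  (LinearEquiv.ofBijective ((LinearMap.id : Γ(X, U) →ₗ[Γ(X, U)] Γ(X, U)).smulRight m)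
    hm.bijective).apply_symm_apply s

theorem coord_smul_self {M : X.Modules} {U : X.Opens} {m : Sec M U} (hm : Gen M U m) (a : Γ(X, U)) :
    coord hm (a • m) = a :=
  (LinearEquiv.ofBijective ((LinearMap.id : Γ(X, U) →ₗ[Γ(X, U)] Γ(X, U)).smulRight m)
    hm.bijective).symm_apply_apply a

theorem coord_eq {M : X.Modules} {U : X.Opens} {m : Sec M U} (hm : Gen M U m) {a : Γ(X, U)} {s : Sec M U}
    (h : a • m = s) : coord hm s = a := by
  rw [← h, coord_smul_self]

variable {S : Scheme.{u}} {f : X ⟶ S} {Ω : X.Modules} (δ : OmegaSh.Der f Ω) (M : X.Modules)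

/-- The local formula `a m ↦ m ⊗ (a ω + δ a)`. -/
noncomputable def locMap {U : X.Opens} {m : Sec M U} (hm : Gen M U m) (ω : Sec Ω U) :
    Sec M U →+ Sec (CohB1.tensorMod M Ω) U where
  toFun s := tau M Ω U (m ⊗ₜ[Γ(X, U)] (coord hm s • ω + dS δ U (coord hm s)))
  map_zero' := by simp
  map_add' s t := by
    simp only [map_add, add_smul, TensorProduct.tmul_add]
    abel

theorem locMap_smul {U : X.Opens} {m : Sec M U} (hm : Gen M U m) (ω : Sec Ω U) (a : Γ(X, U)) :
    locMap δ M hm ω (a • m) = tau M Ω U (m ⊗ₜ[Γ(X, U)] (a • ω + dS δ U a)) := by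
  change tau M Ω U (m ⊗ₜ[Γ(X, U)] (coord hm (a • m) • ω + dS δ U (coord hm (a • m)))) = _
  rw [coord_smul_self]

/-- Existence of a connection from local generators and forms. -/
theorem exists_conn (R : ∀ U : X.Opens, Sec M U → Sec Ω U → Prop)
    (hex : ∀ (O : X.Opens) (x : X), x ∈ O → ∃ U : X.Opens, x ∈ U ∧ U ≤ O ∧ ∃ m ω, Gen M U m ∧ R U m ω)
    (hres : ∀ (U V : X.Opens) (h : V ≤ U) m ω, R U m ω → R V (res M h m) (res Ω h ω))
    (hcomp : ∀ (U : X.Opens) m ω m' ω' (v : Γ(X, U)), Gen M U m → Gen M U m' → R U m ω → R U m' ω' →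
      m' = v • m → v • ω' = v • ω + dS δ U v) :
    ∃ nabla : Coh.toAb M ⟶ Coh.toAb (CohB1.tensorMod M Ω), ConnSh.IsConn δ M nabla ∧
      ∀ (U : X.Opens) m ω, Gen M U m → R U m ω →
        ConnSh.secApp nabla U m = tau M Ω U (m ⊗ₜ[Γ(X, U)] ω) := by
  classical
  let ι : Type u := {t : Σ U : X.Opens, Sec M U × Sec Ω U // Gen M t.1 t.2.1 ∧ R t.1 t.2.1 t.2.2}
  let B : ι → X.Opens := fun t => t.1.1
  have hB : Opens.IsBasis (Set.range B) := by
    rw [Opens.isBasis_iff_nbhd]
    intro O x hx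
    obtain ⟨U, hxU, hUO, m, ω, hm, hR⟩ := hex O x hx
    exact ⟨U, ⟨⟨⟨U, m, ω⟩, hm, hR⟩, rfl⟩, hxU, hUO⟩
  obtain ⟨nabla, hn⟩ := exists_ab_hom hB M (CohB1.tensorMod M Ω) (fun i => locMap δ M i.2.1 i.1.2.2) (by
    rintro ⟨⟨U, m, ω⟩, hm, hR⟩ ⟨⟨V, m', ω'⟩, hm', hR'⟩ h s
    change V ≤ U at h
    change Gen M U m at hm
    change Gen M V m' at hm'
    change Sec M U at s
    change locMap δ M hm' ω' (res M h s) = res _ h (locMap δ M hm ω s)
    obtain ⟨a, rfl⟩ := hm.bijective.2 s
    obtain ⟨v, hv⟩ := hm'.bijective.2 (res M h m)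
    simp only at hv
    have hc := hcomp V m' ω' (res M h m) (res Ω h ω) v hm' (hm.restrict h) hR' (hres U V h m ω hR) hv.symm
    simp only
    rw [locMap_smul, res_smul, ← hv, smul_smul, locMap_smul, ← tau_tres, tres_tmul, ← hv,
      TensorProduct.smul_tmul]
    congr 2
    rw [map_add, res_smul, dS_res, smul_add, smul_comm v, hc, dS_mul, smul_add, mul_smul]
    abel)
  have hn' : ∀ (U : X.Opens) (m : Sec M U) (ω : Sec Ω U) (hm : Gen M U m) (hR : R U m ω) (a : Γ(X, U)),
      ConnSh.secApp nabla U (a • m) = tau M Ω U (m ⊗ₜ[Γ(X, U)] (a • ω + dS δ U a)) := by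
    intro U m ω hm hR a
    rw [← locMap_smul δ M hm ω a]
    exact hn ⟨⟨U, m, ω⟩, hm, hR⟩ (a • m)
  refine ⟨nabla, ?_, ?_⟩
  · intro U t e
    change ConnSh.secApp nabla U (t • e) = t • ConnSh.secApp nabla U e +
      tau M Ω U (e ⊗ₜ[Γ(X, U)] dS δ U t)
    apply eq_of_locally
    intro x hx
    obtain ⟨V, hxV, hVU, m, ω, hm, hR⟩ := hex U x hx
    refine ⟨V, hVU, hxV, ?_⟩
    obtain ⟨a, ha⟩ := hm.bijective.2 (res M hVU e)
    simp only at ha
    rw [← secApp_res, res_smul, map_add, res_smul, ← secApp_res, ← tau_tres, tres_tmul, dS_res, ← ha,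
      smul_smul, hn' V m ω hm hR, hn' V m ω hm hR, ← map_smul, ← map_add, TensorProduct.smul_tmul,
      ← TensorProduct.tmul_smul, ← TensorProduct.tmul_add, dS_mul, smul_add, smul_smul]
    congr 2
    abel
  · intro U m ω hm hR
    have := hn' U m ω hm hR 1
    rwa [one_smul, one_smul, dS_one, add_zero] at this

end K892.RankOne
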